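import Cfsg.Prelude.Def_Sporadic_a
set_option linter.all false

/-!
# The length-24 code as a list of 24-bit natural numbers

Words `GolayPt → ZMod 2` are encoded as bit masks (`mask`, `word`): the residue `x` is bit
`x.val`, the extra point is bit 23.  Addition of words is `xor` of masks, the Hamming norm is the
number of binary ones (`popc 24`).  The code is the image of `enc` on `0 .. 4095` and is also the
kernel of the syndrome map `syn`.
-/

set_option autoImplicit false

namespace Cfsg.Agent.Golay.Core

open Cfsg

/-! ### Positions -/

/-- Bit position of a point. -/
def pos : GolayPt → ℕ
  | none => 23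
  | some x => x.val

/-- The point at a bit position. -/
def pt (i : Fin 24) : GolayPt := if i.val < 23 then some (i.val : ZMod 23) else none

theorem pos_lt (p : GolayPt) : pos p < 24 := by
  revert p; decide

theorem pt_pos (p : GolayPt) : pt ⟨pos p, pos_lt p⟩ = p := by
  revert p; decide

theorem pos_pt (i : Fin 24) : pos (pt i) = i.val := by
  revert i; decide

theorem pos_injective : Function.Injective pos := by
  intro p q h
  rw [← pt_pos p, ← pt_pos q]
  congr 1
  exact Fin.ext h

/-- The 24 points are `Fin 24`. -/
def ptEquiv : Fin 24 ≃ GolayPt where
  toFun := pt
  invFun p := ⟨pos p, pos_lt p⟩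
  left_inv i := Fin.ext (pos_pt i)
  right_inv p := pt_pos p

/-! ### Masks and words -/

/-- The bit mask of a word. -/
def mask (w : GolayPt → ZMod 2) : ℕ := Nat.ofBits (fun i : Fin 24 => decide (w (pt i) ≠ 0))

/-- The word of a bit mask. -/
def word (n : ℕ) : GolayPt → ZMod 2 := fun p => if n.testBit (pos p) then 1 else 0

theorem word_apply (n : ℕ) (p : GolayPt) : word n p = if n.testBit (pos p) then 1 else 0 := rfl

theorem mask_lt (w : GolayPt → ZMod 2) : mask w < 2 ^ 24 := Nat.ofBits_lt_two_pow _

theorem testBit_mask (w : GolayPt → ZMod 2) (p : GolayPt) :
    (mask w).testBit (pos p) = decide (w p ≠ 0) := by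
  unfold mask
  rw [Nat.testBit_ofBits_lt _ _ (pos_lt p), pt_pos]

theorem testBit_mask_ge (w : GolayPt → ZMod 2) (i : ℕ) (hi : 24 ≤ i) :
    (mask w).testBit i = false := by
  unfold mask
  rw [Nat.testBit_ofBits_ge _ _ hi]

theorem zmod2_cases (a : ZMod 2) : a = 0 ∨ a = 1 := by
  revert a; decide

theorem word_mask (w : GolayPt → ZMod 2) : word (mask w) = w := by
  funext p
  rw [word_apply, testBit_mask]
  rcases zmod2_cases (w p) with h | h <;> simp [h]

theorem mask_injective : Function.Injective mask := by
  intro v w h
  rw [← word_mask v, ← word_mask w, h]

theorem mask_word {n : ℕ} (hn : n < 2 ^ 24) : mask (word n) = n := by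
  apply Nat.eq_of_testBit_eq
  intro i
  by_cases hi : i < 24
  · have h1 := testBit_mask (word n) (pt ⟨i, hi⟩)
    rw [pos_pt] at h1
    simp only at h1
    rw [h1, word_apply, pos_pt]
    cases h : n.testBit i <;> simp
  · rw [testBit_mask_ge _ _ (not_lt.mp hi)]
    symm
    apply Nat.testBit_eq_false_of_lt
    exact lt_of_lt_of_le hn (Nat.pow_le_pow_right (by norm_num) (not_lt.mp hi))

theorem word_xor (a b : ℕ) : word (a ^^^ b) = word a + word b := by
  funext p
  rw [Pi.add_apply, word_apply, word_apply, word_apply, Nat.testBit_xor]
  cases a.testBit (pos p) <;> cases b.testBit (pos p) <;> decide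

theorem word_zero : word 0 = 0 := by
  funext p
  rw [word_apply, Nat.zero_testBit]
  rfl

theorem mask_zero : mask 0 = 0 := by
  rw [← word_zero, mask_word (by norm_num)]

theorem mask_add (v w : GolayPt → ZMod 2) : mask (v + w) = mask v ^^^ mask w := by
  have h : mask v ^^^ mask w < 2 ^ 24 := Nat.xor_lt_two_pow (mask_lt v) (mask_lt w)
  rw [← mask_word h, word_xor, word_mask, word_mask]

theorem neg_eq (w : GolayPt → ZMod 2) : -w = w := by
  funext p
  rw [Pi.neg_apply]
  rcases zmod2_cases (w p) with h | h <;> rw [h] <;> decide

theorem sub_eq (v w : GolayPt → ZMod 2) : v - w = v + w := by
  rw [sub_eq_add_neg, neg_eq]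

theorem mask_sub (v w : GolayPt → ZMod 2) : mask (v - w) = mask v ^^^ mask w := by
  rw [sub_eq, mask_add]

theorem mask_eq_zero_iff (w : GolayPt → ZMod 2) : mask w = 0 ↔ w = 0 := by
  constructor
  · intro h
    rw [← word_mask w, h, word_zero]
  · rintro rfl
    exact mask_zero

/-! ### Number of ones -/

/-- Number of ones among the `k` lowest binary digits of `n`. -/
def popc : ℕ → ℕ → ℕ
  | 0, _ => 0
  | k + 1, n => n % 2 + popc k (n / 2)

theorem popc_zero_left (n : ℕ) : popc 0 n = 0 := rfl

theorem popc_succ (k n : ℕ) : popc (k + 1) n = n % 2 + popc k (n / 2) := rfl

theorem popc_eq_sum (k n : ℕ) :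
    popc k n = ∑ i ∈ Finset.range k, (n.testBit i).toNat := by
  induction k generalizing n with
  | zero => rfl
  | succ k ih =>
    rw [popc_succ, ih, Finset.sum_range_succ', add_comm]
    congr 1
    · apply Finset.sum_congr rfl
      intro i _
      rw [Nat.testBit_succ]
    · rw [Nat.testBit_zero]
      rcases Nat.mod_two_eq_zero_or_one n with h | h <;> rw [h] <;> rfl

theorem popc_eq_card (k n : ℕ) :
    popc k n = ((Finset.range k).filter (fun i => n.testBit i = true)).card := by
  rw [popc_eq_sum, Finset.card_filter]
  apply Finset.sum_congr rfl
  intro i _
  cases n.testBit i <;> rfl

theorem hammingNorm_eq_popc (w : GolayPt → ZMod 2) : hammingNorm w = popc 24 (mask w) := by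
  rw [popc_eq_card]
  unfold hammingNorm
  apply Finset.card_bij (fun p _ => pos p)
  · intro p hp
    simp only [Finset.mem_filter, Finset.mem_univ, true_and] at hp
    simp only [Finset.mem_filter, Finset.mem_range]
    refine ⟨pos_lt p, ?_⟩
    rw [testBit_mask]
    simpa using hp
  · intro p _ q _ h
    exact pos_injective h
  · intro i hi
    simp only [Finset.mem_filter, Finset.mem_range] at hi
    obtain ⟨hi1, hi2⟩ := hi
    refine ⟨pt ⟨i, hi1⟩, ?_, pos_pt _⟩
    simp only [Finset.mem_filter, Finset.mem_univ, true_and]
    have h1 := testBit_mask w (pt ⟨i, hi1⟩)
    rw [pos_pt] at h1
    simp only at h1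
    rw [hi2] at h1
    simpa using h1.symm

theorem hammingNorm_word {n : ℕ} (hn : n < 2 ^ 24) : hammingNorm (word n) = popc 24 n := by
  rw [hammingNorm_eq_popc, mask_word hn]

/-! ### Linear maps given by columns -/

/-- Xor of the entries of `L` selected by the binary digits of `n`. -/
def lin : List ℕ → ℕ → ℕ
  | [], _ => 0
  | c :: L, n => (c * (n % 2)) ^^^ lin L (n / 2)

theorem lin_nil (n : ℕ) : lin [] n = 0 := rfl

theorem lin_cons (c : ℕ) (L : List ℕ) (n : ℕ) :
    lin (c :: L) n = (c * (n % 2)) ^^^ lin L (n / 2) := rfl

theorem xor_mod_two (a b : ℕ) : (a ^^^ b) % 2 = (a % 2) ^^^ (b % 2) := by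
  have := @Nat.xor_mod_two_pow a b 1
  simpa using this

theorem lin_xor (L : List ℕ) (a b : ℕ) : lin L (a ^^^ b) = lin L a ^^^ lin L b := by
  induction L generalizing a b with
  | nil => rw [lin_nil, lin_nil, lin_nil, Nat.xor_self]
  | cons c L ih =>
    rw [lin_cons, lin_cons, lin_cons, Nat.xor_div_two, ih, xor_mod_two]
    have key : c * ((a % 2) ^^^ (b % 2)) = (c * (a % 2)) ^^^ (c * (b % 2)) := by
      rcases Nat.mod_two_eq_zero_or_one a with h | h <;>
      rcases Nat.mod_two_eq_zero_or_one b with h' | h' <;> simp [h, h']
    rw [key]
    ac_rfl

theorem lin_zero (L : List ℕ) : lin L 0 = 0 := by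
  induction L with
  | nil => rfl
  | cons c L ih => rw [lin_cons, Nat.zero_div, ih]; simp

theorem lin_mem_of_forall {S : Set ℕ} (h0 : 0 ∈ S) (hx : ∀ a ∈ S, ∀ b ∈ S, a ^^^ b ∈ S)
    (L : List ℕ) (hL : ∀ c ∈ L, c ∈ S) (n : ℕ) : lin L n ∈ S := by
  induction L generalizing n with
  | nil => exact h0
  | cons c L ih =>
    rw [lin_cons]
    apply hx
    · rcases Nat.mod_two_eq_zero_or_one n with h | h
      · rw [h, Nat.mul_zero]; exact h0
      · rw [h, Nat.mul_one]; exact hL c (by simp)
    · exact ih (fun c' hc' => hL c' (by simp [hc'])) _

/-! ### Checking all numbers in a dyadic block -/

/-- Check `P` on `a, …, a + 2 ^ j - 1`. -/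
def allD (P : ℕ → Bool) : ℕ → ℕ → Bool
  | 0, a => P a
  | j + 1, a => allD P j a && allD P j (a + 2 ^ j)

theorem allD_spec (P : ℕ → Bool) (j a : ℕ) (h : allD P j a = true) (x : ℕ) (h1 : a ≤ x)
    (h2 : x < a + 2 ^ j) : P x = true := by
  induction j generalizing a with
  | zero =>
    have : x = a := by simp at h2; omega
    rw [this]; exact h
  | succ j ih =>
    rw [allD, Bool.and_eq_true] at h
    by_cases hx : x < a + 2 ^ j
    · exact ih a h.1 h1 hx
    · refine ih (a + 2 ^ j) h.2 (not_lt.mp hx) ?_
      rw [pow_succ] at h2
      omega

/-- Count `P` on `a, …, a + 2 ^ j - 1`. -/
def cntD (P : ℕ → Bool) : ℕ → ℕ → ℕ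
  | 0, a => bif P a then 1 else 0
  | j + 1, a => cntD P j a + cntD P j (a + 2 ^ j)

theorem cntD_spec (P : ℕ → Bool) (j a : ℕ) :
    cntD P j a = ((Finset.Ico a (a + 2 ^ j)).filter (fun x => P x = true)).card := by
  induction j generalizing a with
  | zero =>
    rw [cntD, pow_zero, Nat.Ico_succ_singleton]
    cases h : P a <;> simp [Finset.filter_singleton, h]
  | succ j ih =>
    rw [cntD, ih, ih, ← Finset.card_union_of_disjoint, ← Finset.filter_union,
      Finset.Ico_union_Ico_eq_Ico (Nat.le_add_right _ _) (Nat.le_add_right _ _)]
    · congr 3
      rw [pow_succ]; omega
    · apply Finset.disjoint_filter_filter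
      exact Finset.Ico_disjoint_Ico_consecutive _ _ _

theorem card_filter_range (P : ℕ → Bool) (j : ℕ) :
    ((Finset.range (2 ^ j)).filter (fun x => P x = true)).card = cntD P j 0 := by
  rw [cntD_spec, zero_add, Finset.range_eq_Ico]

/-! ### The code -/

/-- A basis of the code, systematic in the 12 lowest bits. -/
def basis : List ℕ :=
  [13062145, 4845570, 13938692, 7221256, 10170384, 11952160, 15515712, 2019456, 4038912, 8077824, 11654144, 14919680]

/-- The columns of a check matrix of the code. -/
def checkCols : List ℕ :=
  [3189, 1183, 3403, 1763, 2483, 2918, 3788, 493, 986, 1972, 2845, 3642, 1, 2, 4, 8, 16, 32, 64, 128, 256, 512, 1024, 2048]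

/-- Encoding: the code word whose 12 lowest bits are those of `k`. -/
def enc (k : ℕ) : ℕ := lin basis k

/-- Syndrome, a 12-bit number. -/
def syn (n : ℕ) : ℕ := lin checkCols n

/-- The masks of the words `qrWord 0, …, qrWord 22` and of the all-one word. -/
def gens : List ℕ :=
  [340831, 681662, 1363324, 2726648, 5453296, 2517985, 5035970, 1683333, 3366666, 6733332, 5078057, 1767507, 3535014, 7070028, 5751449, 3114291, 6228582, 4068557, 8137114, 7885621, 7382635, 6376663, 4364719, 16777215]

/-- How the basis is obtained from the generators. -/
def combos : List ℕ :=
  [8390313, 280, 8389785, 1400, 8390330, 8390551, 8390093, 2000, 1347, 101, 8390243, 8390181]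

theorem enc_xor (a b : ℕ) : enc (a ^^^ b) = enc a ^^^ enc b := lin_xor _ a b

theorem syn_xor (a b : ℕ) : syn (a ^^^ b) = syn a ^^^ syn b := lin_xor _ a b

theorem syn_zero : syn 0 = 0 := lin_zero _

theorem enc_zero : enc 0 = 0 := lin_zero _

theorem syn_enc (k : ℕ) : syn (enc k) = 0 := by
  have h := lin_mem_of_forall (S := {n | syn n = 0}) syn_zero
    (fun a ha b hb => by
      simp only [Set.mem_ofPred_eq] at *
      rw [syn_xor, ha, hb]; rfl) basis (by decide) k
  exact h

theorem enc_mod {k : ℕ} (hk : k < 4096) : enc k % 4096 = k := by
  have h : allD (fun k => Nat.beq (enc k % 4096) k) 12 0 = true := by decide +kernel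
  have := allD_spec _ _ _ h k (Nat.zero_le _) (by simpa using hk)
  exact Nat.eq_of_beq_eq_true this

theorem enc_lt (k : ℕ) : enc k < 2 ^ 24 := by
  have h := lin_mem_of_forall (S := {n | n < 2 ^ 24}) (by simp)
    (fun a ha b hb => Nat.xor_lt_two_pow ha hb) basis (by decide) k
  exact h

theorem syn_lt (k : ℕ) : syn k < 2 ^ 12 := by
  have h := lin_mem_of_forall (S := {n | n < 2 ^ 12}) (by simp)
    (fun a ha b hb => Nat.xor_lt_two_pow ha hb) checkCols (by decide) k
  exact h

theorem enc_injOn : Set.InjOn enc (Set.Iio 4096) := by
  intro a ha b hb h
  rw [← enc_mod (Set.mem_Iio.mp ha), ← enc_mod (Set.mem_Iio.mp hb), h]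

theorem syn_high {j : ℕ} (hj : j < 4096) : syn (4096 * j) = j := by
  have h : allD (fun j => Nat.beq (syn (4096 * j)) j) 12 0 = true := by decide +kernel
  have := allD_spec _ _ _ h j (Nat.zero_le _) (by simpa using hj)
  exact Nat.eq_of_beq_eq_true this

/-- A mask with vanishing syndrome is the encoding of its 12 lowest bits. -/
theorem eq_enc_of_syn_eq_zero {m : ℕ} (hm : m < 2 ^ 24) (h : syn m = 0) :
    m = enc (m % 4096) := by
  set k := m % 4096 with hk
  have hk' : k < 4096 := Nat.mod_lt _ (by norm_num)
  have h1 : syn (m ^^^ enc k) = 0 := by rw [syn_xor, h, syn_enc]; rfl
  have h2 : (m ^^^ enc k) % 4096 = 0 := by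
    have := @Nat.xor_mod_two_pow m (enc k) 12
    norm_num at this
    rw [this, enc_mod hk', ← hk, Nat.xor_self]
  have h3 : m ^^^ enc k < 2 ^ 24 := Nat.xor_lt_two_pow hm (enc_lt k)
  obtain ⟨j, hj⟩ : 4096 ∣ m ^^^ enc k := Nat.dvd_of_mod_eq_zero h2
  have h4 : j < 4096 := by
    rw [hj] at h3; omega
  rw [hj, syn_high h4] at h1
  rw [h1, Nat.mul_zero] at hj
  exact Nat.xor_eq_zero_iff.mp hj

theorem mask_qrWord (t : ZMod 23) : mask (qrWord t) = gens.getD t.val 0 := by
  revert t
  decide +kernel

theorem mask_one : mask (1 : GolayPt → ZMod 2) = 16777215 := by
  decide +kernel

theorem syn_mask_eq_zero_of_mem {w : GolayPt → ZMod 2} (hw : w ∈ golayCode) :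
    syn (mask w) = 0 := by
  let K : Submodule (ZMod 2) (GolayPt → ZMod 2) :=
    { carrier := {w | syn (mask w) = 0}
      add_mem' := by
        intro a b ha hb
        simp only [Set.mem_ofPred_eq] at *
        rw [mask_add, syn_xor, ha, hb]; rfl
      zero_mem' := by
        show syn (mask 0) = 0
        rw [mask_zero, syn_zero]
      smul_mem' := by
        intro c x hx
        simp only [Set.mem_ofPred_eq] at *
        rcases zmod2_cases c with h | h
        · rw [h, zero_smul, mask_zero, syn_zero]
        · rw [h, one_smul, hx] }
  have hle : golayCode ≤ K := by
    apply Submodule.span_le.mpr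
    rintro x (⟨t, rfl⟩ | hx)
    · show syn (mask (qrWord t)) = 0
      rw [mask_qrWord]
      revert t
      decide +kernel
    · rw [Set.mem_singleton_iff] at hx
      subst hx
      show syn (mask 1) = 0
      rw [mask_one]
      decide +kernel
  exact hle hw

theorem qrWord_mem (t : ZMod 23) : qrWord t ∈ golayCode :=
  Submodule.subset_span (Set.mem_union_left _ ⟨t, rfl⟩)

theorem one_mem : (1 : GolayPt → ZMod 2) ∈ golayCode :=
  Submodule.subset_span (Set.mem_union_right _ rfl)

theorem word_lin_mem (L : List ℕ) (hL : ∀ c ∈ L, word c ∈ golayCode) (n : ℕ) :
    word (lin L n) ∈ golayCode :=
  lin_mem_of_forall (S := {n | word n ∈ golayCode})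
    (by show word 0 ∈ golayCode; rw [word_zero]; exact Submodule.zero_mem _)
    (fun a ha b hb => by
      show word (a ^^^ b) ∈ golayCode
      rw [word_xor]; exact Submodule.add_mem _ ha hb) L hL n

theorem word_gens_mem (c : ℕ) (hc : c ∈ gens) : word c ∈ golayCode := by
  have h : ∀ i : Fin 24, word (gens.getD i.val 0) ∈ golayCode := by
    intro i
    by_cases hi : i.val < 23
    · have h1 := mask_qrWord (i.val : ZMod 23)
      rw [ZMod.val_natCast_of_lt hi] at h1
      rw [← h1, word_mask]
      exact qrWord_mem _
    · have h2 : i.val = 23 := by omega
      rw [h2]
      have h3 : gens.getD 23 0 = mask (1 : GolayPt → ZMod 2) := by rw [mask_one]; rfl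
      rw [h3, word_mask]
      exact one_mem
  obtain ⟨i, hi, rfl⟩ := List.getElem_of_mem hc
  have h24 : gens.length = 24 := rfl
  have := h ⟨i, by omega⟩
  rwa [List.getD_eq_getElem _ _ hi] at this

theorem word_enc_mem (k : ℕ) : word (enc k) ∈ golayCode := by
  apply word_lin_mem
  have h1 : basis = combos.map (lin gens) := by decide +kernel
  rw [h1]
  intro c hc
  obtain ⟨a, _, rfl⟩ := List.mem_map.mp hc
  exact word_lin_mem gens word_gens_mem a

/-- Membership by syndrome. -/
theorem mem_golayCode_iff_syn (w : GolayPt → ZMod 2) : w ∈ golayCode ↔ syn (mask w) = 0 := by
  refine ⟨syn_mask_eq_zero_of_mem, fun h => ?_⟩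
  rw [← word_mask w, eq_enc_of_syn_eq_zero (mask_lt w) h]
  exact word_enc_mem _

theorem word_mem_golayCode_iff {n : ℕ} (hn : n < 2 ^ 24) : word n ∈ golayCode ↔ syn n = 0 := by
  rw [mem_golayCode_iff_syn, mask_word hn]

/-- Membership by encoding. -/
theorem mem_golayCode_iff_enc (w : GolayPt → ZMod 2) :
    w ∈ golayCode ↔ ∃ k < 4096, w = word (enc k) := by
  constructor
  · intro hw
    refine ⟨mask w % 4096, Nat.mod_lt _ (by norm_num), ?_⟩
    rw [← eq_enc_of_syn_eq_zero (mask_lt w) (syn_mask_eq_zero_of_mem hw), word_mask]
  · rintro ⟨k, _, rfl⟩
    exact word_enc_mem k

/-- To check a property of all code words, check it on the 4096 masks. -/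
theorem forall_mem_golayCode {P : (GolayPt → ZMod 2) → Prop} (Q : ℕ → Bool)
    (hQ : ∀ w, w ∈ golayCode → Q (mask w) = true → P w)
    (h : allD (fun k => Q (enc k)) 12 0 = true) (w : GolayPt → ZMod 2) (hw : w ∈ golayCode) :
    P w := by
  apply hQ w hw
  obtain ⟨k, hk, rfl⟩ := (mem_golayCode_iff_enc w).mp hw
  rw [mask_word (enc_lt k)]
  exact allD_spec _ _ _ h k (Nat.zero_le _) (by simpa using hk)

/-- The Boolean test for the weights that occur. -/
def wtOk (n : ℕ) : Bool :=
  Nat.beq n 0 || Nat.beq n 8 || Nat.beq n 12 || Nat.beq n 16 || Nat.beq n 24

theorem wtOk_iff (n : ℕ) : wtOk n = true ↔ n = 0 ∨ n = 8 ∨ n = 12 ∨ n = 16 ∨ n = 24 := by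
  rw [wtOk, Bool.or_eq_true, Bool.or_eq_true, Bool.or_eq_true, Bool.or_eq_true, Nat.beq_eq,
    Nat.beq_eq, Nat.beq_eq, Nat.beq_eq, Nat.beq_eq, or_assoc, or_assoc, or_assoc]

theorem allD_wtOk : allD (fun k => wtOk (popc 24 (enc k))) 12 0 = true := by decide +kernel

theorem weight_cases {w : GolayPt → ZMod 2} (hw : w ∈ golayCode) :
    hammingNorm w = 0 ∨ hammingNorm w = 8 ∨ hammingNorm w = 12 ∨ hammingNorm w = 16 ∨
      hammingNorm w = 24 := by
  rw [hammingNorm_eq_popc, ← wtOk_iff]
  obtain ⟨k, hk, rfl⟩ := (mem_golayCode_iff_enc w).mp hw
  rw [mask_word (enc_lt k)]
  exact allD_spec _ 12 0 allD_wtOk k (Nat.zero_le _) (by simpa using hk)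

theorem eight_le_of_mem_of_ne_zero {w : GolayPt → ZMod 2} (hw : w ∈ golayCode) (h0 : w ≠ 0) :
    8 ≤ hammingNorm w := by
  rcases weight_cases hw with h | h | h | h | h
  · exact absurd (hammingNorm_eq_zero.mp h) h0
  all_goals omega

/-- Counting code words. -/
theorem ncard_golayCode_filter (P : (GolayPt → ZMod 2) → Prop) (Q : ℕ → Bool)
    (hQ : ∀ w, w ∈ golayCode → (P w ↔ Q (mask w) = true)) :
    {w : GolayPt → ZMod 2 | w ∈ golayCode ∧ P w}.ncard = cntD (fun k => Q (enc k)) 12 0 := by
  have h1 : {w : GolayPt → ZMod 2 | w ∈ golayCode ∧ P w} =
      (fun k => word (enc k)) ''
        (((Finset.range (2 ^ 12)).filter (fun k => Q (enc k) = true) : Finset ℕ) : Set ℕ) := by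
    ext w
    simp only [Set.mem_ofPred_eq, Set.mem_image, Finset.coe_filter, Finset.mem_range]
    constructor
    · rintro ⟨hw, hp⟩
      obtain ⟨k, hk, rfl⟩ := (mem_golayCode_iff_enc w).mp hw
      refine ⟨k, ⟨by simpa using hk, ?_⟩, rfl⟩
      have := (hQ _ hw).mp hp
      rwa [mask_word (enc_lt k)] at this
    · rintro ⟨k, ⟨_, hq⟩, rfl⟩
      refine ⟨word_enc_mem k, (hQ _ (word_enc_mem k)).mpr ?_⟩
      rwa [mask_word (enc_lt k)]
  rw [h1, Set.InjOn.ncard_image, Set.ncard_coe_finset, card_filter_range]
  intro a ha b hb hab
  simp only [Finset.coe_filter, Finset.mem_range, Set.mem_ofPred_eq] at ha hb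
  apply enc_injOn (Set.mem_Iio.mpr (by omega)) (Set.mem_Iio.mpr (by omega))
  have := congrArg mask hab
  simpa only [mask_word (enc_lt _)] using this

/-! ### Coset leaders -/

/-- A table of 2048 patterns of at most 3 ones among the 23 lowest bits, one for each syndrome
modulo 2048. -/
def leaderTable : ℕ :=
  0x1000a08010200201104820000404508040000011001022041100108800209000402002200100001140401104420008020200201b00040120040210010000a40080110804012080112000800020a0502002000104040208100420090001110101040000006910040802201000400100114021000011000062000144006020000910102040100220080018000c4040810080820100040500009040400204081040400211008000444008110804024001010100a001008000a4020202028800049000082000009086020002001100c20000640000880000900000200c0002001880002900004200000202004404010808182000082028001801040840000c01020204880008900010200280010081008400600142006000040000d240200028200000491100400084082000810811000888001090002020010004204100880082024200040202200220024081400400050200210080040800181080008801100900014030200002804001008044080024020000a0004140010280001840080a0502000400110104010100a1040081800008c0200000e0080020a004020200180200a10200800050400440144000800900400a00800401802041000080100814020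20300011010080200600084010400a000080e2020020082042000920040080140008018101100401010080810040180800420080600080c000018408008100220040811800404000088040110100202040100420508008000081001102410008002900020810100180800a0412002102000882002030004020010008410280000001c2088004090008020004004242200008060084200100202080220800122000128004044420000406004040140180110008002060090200004180000450000600010c08048000402220020040140001004248200202200000046008042800502042000a020000004200408401010840018002110000222082000020884800080102204040800032020042002022020081000805020042201008100607000008004080002840068003004003001030200080011200014028010000449400009402000200100440200900440048001801008810010820020040010010024020050040240400080100140200300402804000001000402001004003008480004048100088200100400008234004004014001404020110020101200018018040060010800880200820008030060800081000082000004005001001810002820004040048010028100048200080400400100840201100400c0404400042120000004c108200103000202002000208828000008c0408800809001002000a0010222000100821042002002030010404001206004009001024200100300000182088010800212004011102000800101040202100400003140000480400901001050040408004282000040820004284100050000240208212020000420800034000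0820011044200041081002082004004080014000081480408044040100420002480002408480400c0010401008080826800002000a011200104000c0000a0830001020001014004280040400208101100000a0100112001012200102000800160000904800c00200120a004011001014200200088100401108011400081080008008901000102040204100400020600025002101002140090040004500182000001400012800028080010111000080240480008401101004140100018801002208100408200800406000080000c808140084040080420041010800810880401400100006040061064000000b0000120000801200680000300000200001c00002800800300032001200009802000130000220000020900a800004048052000000120010240230000420000201201280004042000010c04012000508180010062000800606200005000040920028020000011104300008200020140022800020420101010004240000a22000420a200040082610000010420400220100120c0040000a800c200000005e0800000042000484001108604000008421808003008006000000028100010220804000240800140201102100011100014000248021020c0000a402008800202002081022001090080410004102200040401080140008100182020400089000004840800460404000490060001000a40000c8000090028000408102000188080820120009800400042200400814011000400440222040000600488040088000220001440108008020046100403000401000082040104100200020a00202200004420014002011110008010044082200209002400041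0102000422208200810020040180400840200818080208088010090020020080002100404201008204200400202010182200400800120020c000018080300002060101800400210100142102008200200201800000384090020000440400881001004081208004008204008408000812100042005000801422020084002000203020220008081220005002800040140005041800080801810040801008100405010004400014001028000700801008020145800004000a020102084000820820060008020208200844002402040020102088000090100100210400020882000802082048008400c0240040040012040008084010110022004010818018000808800080004c0500080402080011808090002800800a08000c100008200200080440100900200482080041010050090000808820030008080208402202000180080080140100300201082000000800401001002003004018008200045000810006800100080240100500254000000054100001402084010012004210c0200000084001108021800080500a0000a8020090002010020804084000424011800008048008090000120c0008200180080840040120018000070000160000801200980000082500060520000300004020503002000408200a0008001840100840800810022800005000004a00214040004201050000501510000088008800220001208200120800081040102100250800004180004050040014504000090009408002808005000000c0004401020440008040140003800080500080a0000141040030021004000088100142001008088042000808014001060200c0280040220040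41001100000c203000100144080101002104800080042240001080402101004100900080004104008210012100400880040208820040402001409000401088050000800188002440000880802200022200a00048081010082020004030000800320000090a04040800a0040004400502208040440010040880000494c000004000408400811001400120048004a020000830004001405000404021060000b00200a000200014040045000004a06000402021002300000809004c0040018000300001600002108000210000a8002084480010010210043004a0000000004004008010010030020080040140080300110008101000402400805001000c100180041008810008249000002000404400809001240040028004000460103004880000300040802108001448400000108320800240800480000014002040c00040008090018008409020000600088001400400200c0040000080100100c00240020802000805001002600000c000c000802300240008010c00004210000a8024002020c00080008110015000100011400a000c6000018000500024014000900820220008000125001400005020440028010101000082100100122020088012000c50000208008080c000020c280040200008404010810024480000001c000202818000c4400021000910800220800440000140004812000240008004c0403000802000800842028000840020000e02000084100100048882200022000c30000800090100c01000121000120001228420004030042800020180020021028000c24000000245088002108004200001000042040084100100020c1080048820000003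841800011000440050030000c1400000091104800208800410000120004001084004c040c0002800090280020480040800040042101800202800404000806001008002008004000002004080904010804000081104220008040200011022100000806240080000a44402004800200a040040402100480404100220081000402010800018800c04010204004000c10204020008104040082020a000102100801010080005200a2000104006020000610000220000040001880002100801100030400800182000060122000204000810080a100000034050401100405000400222000404000410081210008008828008002100800c0800440206040000100801201001050000308502004082004100201804008002081000c40802100880200900400200400020804041010084042008002024010412004000400c1004040080300080600000c040088300080804014102004200200022040029000800c10480011040040200081400082200100400422000421000200884000244420042020044002012040000045000860010088802800482000000232001401404020040802000c0000880041100102200019000808900100820100b800008000a00600803020010000a0001122804000440220024002204004008002402012020005008050080004020018040120400200814004000a020080404030080800884004010020400000800181000202000a0400100800840200602008480021040020200041400102200200400222000821004004100c0080242000000c1200084220400104024000182010020a008028200000214c0000824040000034000882042040080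0820008102202000092009008040100b4000004480080001410200021400020405402000122000000b02003001400801420048020050002000112020402000103008404120080182000009400004040048080110108000c0820401000800000c8420200104041100820006032000000480000d0000020000140000c8003004000220000540001480000204804200009400800042000a1006200310000024801000220082000114000404040001440a2003080001000881800800c200304000001210c08001808003000000004080048100110208000a008408480400200208084800104088021001001800448082001000920000a400004800204081010418004042004081001080000c40088000a208080106000802040100010580001100402201004010480040408410400040184100402022004004010040410210000406010002400018001030100084420400020180204801010030081020082040004008014044040000203404040400a00000a080801840804084001000205080100ac000008040804104002020a00120004083202000000208010411003000800240840150020060002000009804020840480002820001040044010024100401400110400802090000c00500402104000401001802880010000d00024012a0000c00004020024c02000008840201405004001002080021200201200002420018002009001c0001002600082290000008140081040001844400400001400042800105028800020008804002410401284000010140a08001408002800001004080080280080500000a4008411020000808800400a0803004400830000080800a04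0084000844804020804800410024200800208801000a004220000310000880011102020404000800032010202090001041008004088260000021002800240a020002000a0100846004020014000002500808500101040018000b000000840041080102125000000100200600401400c800400090020018201008824800001100248008000046244000020084908001208002400000103010120009020004000a80300100200040020c02800000300004600010c00000540083010220000011423000040009020104200012000281200405042000200882280000203005000804040122400000080a88800110800220000204800000980802001014000000390820008220021800004030020002484200214000080084848001088002100000810020004188820020c000100140828001048002080008004208180010280020400040600080800100800200000024101001020080400110800900208804000a0400802400880204021000c0400200060800201040402100800002900410000c2000004000108000c10040000c02040005080014100a00080040400090800a0020001810060404009000000c28104001804000800640220080040080404202100100410008018008030000060c0020820402002200040060441001028001004002108090000884040012040000430200a0100004414040010006001044000321001009c00000180202000142804010012001002002404005008000c020080200140400300860020000002000404001008003010084100082800200400410800300210001802204020000c02802000042824040000441020020044040090081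a0000a000040428014020000005805002090040000112400081048020001280004808400060400200840401100819000000340000280030040002a00000812012800000a118800040008802280200014184000060020608000c0800180000001204100014480400042402008400089000092000024004041084008280000800510180021000209004020082401041008200804004008108084000800206042040010240402040800080440402020200002828100800020516000001041040024120200400820820008a004000000982024000041000482001104080006008410003004000d0150000808008001108500400001098000090040120100214800002041088008000428144000810008508000a080014000000200a0000151020000200511002001001600084040240108020020014000310008881000202040404100813000020009004001460040400012400404001600004109280008018009000800018212400012002048800090800120000404800080015002002014000011800000a90220011800008041100050104200114000140020448000888001100000002602028010820010c0008800084280008480010800000010641800082800104000206000408000808001000004004080221008804004012010084004000c10404400014003080002102400008028402800200121000018120048020410001000c8004010108000200600000c82040002003040a0004210084040000218c0001002000c000320e000088000420024002404000601005010c0040000404001808020a000821010001810000600010b000880044040d0000010a000000b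0900406000400004a008000c084040c8000000a00005400012800c4000008a00308000608000c000084000400848000890000120210020000a210002080412020802010210000206008120200020404040810080b0000100090801040a004001012000120810000e003000a8000000443000211004010a4000220020288000508000a000080000500400a010010201208080040011102040409800081000480002400160094000240020248000488000900008200044028000000a88c00040014022800044800088000080a00218000428000840001060002080004080008000000884008024204000a0000a0008400050800121010024080400220210200000c0100101084000043202000870000080091000c00c0040000c0402084020000d0008806800000002cc000820800086400000150018800030800060000002120000240000a20020900408400102404040405800020041002024210000854000400084148000288000500004010020402400011104c000a0000812800024800048000100a001180002280004400008600010800020800040000020090400014005080801200808418020000004303800040030000180a200008340003000200c8000188000300000000900041200102402c0000080900a80001480002800001009009800012800024000046000088000108000200009000041002418020001c0000006020680000c8000180000010480580000a800014000026000048000088000100000400900380000680000c0000160000280000480000800000e0000180000280000400000600000800000800000000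

/-- The coset leader modulo the last bit. -/
def leader (s : ℕ) : ℕ := (leaderTable >>> (23 * s)) % 8388608

theorem leader_spec {s : ℕ} (hs : s < 2048) :
    syn (leader s) % 2048 = s ∧ popc 23 (leader s) ≤ 3 ∧ leader s < 2 ^ 23 := by
  have h : allD (fun s => Nat.beq (syn (leader s) % 2048) s && Nat.ble (popc 23 (leader s)) 3)
      11 0 = true := by decide +kernel
  have := allD_spec _ _ _ h s (Nat.zero_le _) (by simpa using hs)
  simp only [Bool.and_eq_true, Nat.beq_eq, Nat.ble_eq] at this
  refine ⟨this.1, this.2, ?_⟩
  exact Nat.mod_lt _ (by norm_num)

end Cfsg.Agent.Golay.Core
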